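/-
Transitive groups of prime power degree in which the centralisers of nontrivial `p`-elements have odd
order and which have no irreducible character of `p`-defect zero: if the odd order subgroups are solvable
then such a group is a regular normal abelian `p`-subgroup extended by a point stabiliser with a central
involution inverting it.
-/
import Cfsg.Prelude.Def_Local
import Cfsg.Agent.Lib.Blk83.PairCount
import Cfsg.Agent.Lib.Char.Clifford
import Cfsg.Agent.Lib.Char.Complete
import Cfsg.Agent.Lib.Char.CentralOver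
import Cfsg.Agent.Lib.Solvable.Core
import Cfsg.Agent.S4742
import Cfsg.Agent.S4744

set_option autoImplicit false
open Cfsg
open scoped Pointwise ComplexConjugate

namespace CfsgLib.OddCentralizer

variable {G : Type*} [Group G] [Finite G] (p : ℕ) [Fact p.Prime]

/-- An odd order subgroup normalised by an involution that fixes no nontrivial `p`-element has a Sylow
`p`-subgroup that the involution inverts. -/
theorem exists_inverted_sylow (C : Subgroup G) (hC : Odd (Nat.card C)) (g : G) (hgg : g * g = 1)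
    (hn : ∀ a ∈ C, g * a * g⁻¹ ∈ C)
    (hfree : ∀ a ∈ C, (∃ k : ℕ, orderOf a = p ^ k) → g * a * g⁻¹ = a → a = 1) :
    ∃ R : Subgroup G, R ≤ C ∧ IsPGroup p R ∧ Nat.card R = p ^ (Nat.card C).factorization p ∧
      ∀ a ∈ R, g * a * g⁻¹ = a⁻¹ := by
  classical
  let φ : MulAut C :=
    { toFun := fun a => ⟨g * a * g⁻¹, hn a a.2⟩
      invFun := fun a => ⟨g * a * g⁻¹, hn a a.2⟩
      left_inv := fun a => Subtype.ext <| by
        calc g * (g * (a : G) * g⁻¹) * g⁻¹ = (g * g) * a * (g * g)⁻¹ := by group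
          _ = a := by rw [hgg]; group
      right_inv := fun a => Subtype.ext <| by
        calc g * (g * (a : G) * g⁻¹) * g⁻¹ = (g * g) * a * (g * g)⁻¹ := by group
          _ = a := by rw [hgg]; group
      map_mul' := fun a b => Subtype.ext <| by
        change g * ((a : G) * b) * g⁻¹ = (g * a * g⁻¹) * (g * b * g⁻¹)
        group }
  have hφφ : Function.Involutive φ := fun a => φ.left_inv a
  obtain ⟨R, hRfix⟩ : ∃ R : Sylow p C, φ • R = R := by
    let f : Equiv.Perm (Sylow p C) := MulAction.toPerm φ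
    have hf : Function.Involutive f := fun R => by
      have h1 : φ * φ = 1 := MulEquiv.ext hφφ
      change φ • φ • R = R
      rw [smul_smul, h1, one_smul]
    haveI := Fintype.ofFinite (Sylow p C)
    have hodd : ¬ 2 ∣ Fintype.card (Sylow p C) := by
      rw [← Nat.card_eq_fintype_card, Nat.two_dvd_ne_zero, ← Nat.odd_iff]
      exact hC.of_dvd_nat ((default : Sylow p C).card_dvd_index.trans (Subgroup.index_dvd_card _))
    obtain ⟨R, hR⟩ := Equiv.Perm.exists_fixed_point_of_prime (p := 2) (n := 1) hodd (σ := f) (by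
      rw [pow_one, pow_two]; exact Equiv.ext hf)
    exact ⟨R, hR⟩
  refine ⟨(R : Subgroup C).map C.subtype, Subgroup.map_subtype_le _, R.isPGroup'.map _, ?_, ?_⟩
  · rw [Subgroup.card_map_of_injective C.subtype_injective, R.card_eq_multiplicity]
  · have hφR : ∀ a ∈ (R : Subgroup C), φ a ∈ (R : Subgroup C) := by
      intro a ha
      rw [← hRfix]
      exact Subgroup.mem_map.mpr ⟨a, ha, rfl⟩
    let ψ : (R : Subgroup C) →* (R : Subgroup C) :=
      (φ.toMonoidHom.comp (R : Subgroup C).subtype).codRestrict _ fun a => hφR a a.2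
    have hψfree : MonoidHom.FixedPointFree ψ := by
      rintro ⟨⟨a, haC⟩, haR⟩ hfix
      have hfix' : g * a * g⁻¹ = a := congrArg (fun t : (R : Subgroup C) => ((t : C) : G)) hfix
      obtain ⟨k, hk⟩ := IsPGroup.iff_orderOf.mp R.isPGroup' ⟨⟨a, haC⟩, haR⟩
      rw [← Subgroup.orderOf_coe, ← Subgroup.orderOf_coe] at hk
      exact Subtype.ext (Subtype.ext (hfree a haC ⟨k, hk⟩ hfix'))
    have hψ : Function.Involutive ψ := fun a => Subtype.ext (hφφ a)
    rintro x ⟨a, ha, rfl⟩
    exact congrArg (fun t : (R : Subgroup C) => ((t : C) : G))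
      (congrFun (hψfree.coe_eq_inv_of_involutive hψ) ⟨a, ha⟩)

/-- Every element of an odd order subgroup is a square in it. -/
theorem exists_sq (C : Subgroup G) (hC : Odd (Nat.card C)) {a : G} (ha : a ∈ C) :
    ∃ b ∈ C, b * b = a ∧ ∀ g : G, g * a * g⁻¹ = a⁻¹ → g * b * g⁻¹ = b⁻¹ := by
  obtain ⟨m, hm⟩ := hC
  refine ⟨a ^ (m + 1), C.pow_mem ha _, ?_, fun g hg => ?_⟩
  · have h1 : a ^ (2 * m + 1) = 1 := by
      rw [← hm]
      exact congrArg Subtype.val (pow_card_eq_one' (x := (⟨a, ha⟩ : C)))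
    rw [← pow_add, show m + 1 + (m + 1) = (2 * m + 1) + 1 by ring, pow_succ, h1, one_mul]
  · rw [← conj_pow, hg, inv_pow]

/-- Without characters of `p`-defect zero every coefficient of the square of a class sum, times the
centraliser order, is divisible by `p`. -/
theorem count_dvd (hnd : ¬ ∃ χ : Cfsg.IrrCharacter G,
      (Cfsg.charDegree (χ : G → ℂ)).factorization p = (Nat.card G).factorization p) (z w : G) :
    p ∣ Nat.card {a : G // IsConj z (a * z * a⁻¹ * w)} *
      Nat.card (Subgroup.centralizer ({z} : Set G)) := by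
  classical
  haveI := Fintype.ofFinite G
  have hp : p.Prime := Fact.out
  have he : ∀ χ : Cfsg.IrrCharacter G, ∃ e : ℕ,
      Fintype.card G = Cfsg.charDegree (χ : G → ℂ) * (p * e) := by
    intro χ
    obtain ⟨d, hd⟩ := CfsgLib.Blk83.deg_dvd χ
    have hd0 : d ≠ 0 := fun h => Nat.card_pos.ne' (by rw [hd, h, mul_zero] : Nat.card G = 0)
    have hpd : p ∣ d := by
      by_contra hpd
      refine hnd ⟨χ, ?_⟩
      rw [hd, Nat.factorization_mul (CfsgLib.Blk83.deg_pos χ).ne' hd0, Finsupp.add_apply,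
        Nat.factorization_eq_zero_of_not_dvd hpd, add_zero]
    obtain ⟨e, rfl⟩ := hpd
    exact ⟨e, by rw [← Nat.card_eq_fintype_card, hd]⟩
  choose e he using he
  have key := CfsgLib.Blk83.sum_conj_mul_div (G := G) z w
  rw [Finset.mul_sum] at key
  set N := Nat.card {a : G // IsConj z (a * z * a⁻¹ * w)} with hN
  set C := Nat.card (Subgroup.centralizer ({z} : Set G)) with hC
  have hN' : (Finset.univ.filter fun a : G => IsConj z (a * z * a⁻¹ * w)).card = N := by
    rw [hN, Nat.card_eq_fintype_card, Fintype.card_subtype]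
  rw [hN'] at key
  refine CfsgLib.Blk83.isIntegral_rat_dvd ?_ hp.ne_zero
  have hval : ((N * C : ℕ) : ℂ) / (p : ℂ) = ∑ χ : Cfsg.IrrCharacter G,
      (χ : G → ℂ) z * conj ((χ : G → ℂ) z) * (χ : G → ℂ) w * (e χ : ℂ) := by
    have hp0 : (p : ℂ) ≠ 0 := by exact_mod_cast hp.ne_zero
    rw [div_eq_iff hp0, Nat.cast_mul, ← key, Finset.sum_mul]
    refine Finset.sum_congr rfl fun χ _ => ?_
    have hd0 : (Cfsg.charDegree (χ : G → ℂ) : ℂ) ≠ 0 := by
      exact_mod_cast (CfsgLib.Blk83.deg_pos χ).ne'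
    rw [CfsgLib.Blk83.one_eq, he χ, Nat.cast_mul, Nat.cast_mul]
    field_simp
  rw [hval]
  refine IsIntegral.sum _ fun χ _ => IsIntegral.mul ?_ (isIntegral_natCast _)
  rw [CfsgLib.Blk83.conj_char]
  exact ((CfsgLib.Blk83.isIntegral_apply χ z).mul (CfsgLib.Blk83.isIntegral_apply χ z⁻¹)).mul
    (CfsgLib.Blk83.isIntegral_apply χ w)

variable (hC : ∀ g : G, g ≠ 1 → (∃ k : ℕ, orderOf g = p ^ k) →
    Odd (Nat.card ↥(Subgroup.centralizer ({g} : Set G))))

include hC in
/-- An involution fixes no nontrivial `p`-element. -/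
theorem eq_one_of_fixed {t a : G} (ht : orderOf t = 2) (ha : ∃ k : ℕ, orderOf a = p ^ k)
    (hfix : t * a * t⁻¹ = a) : a = 1 := by
  by_contra hne
  have hmem : t ∈ Subgroup.centralizer ({a} : Set G) :=
    Subgroup.mem_centralizer_singleton_iff.mpr (mul_inv_eq_iff_eq_mul.mp hfix)
  have h2 := orderOf_dvd_natCard (⟨t, hmem⟩ : ↥(Subgroup.centralizer ({a} : Set G)))
  rw [← Subgroup.orderOf_coe] at h2
  exact (Nat.not_even_iff_odd.mpr (hC a hne ha)) (even_iff_two_dvd.mpr (ht ▸ h2))

include hC in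
/-- An involution inverting a nontrivial `p`-element inverts a Sylow `p`-subgroup, if these are abelian. -/
theorem exists_sylow_inverted (hab : ∀ P : Sylow p G, IsMulCommutative ↥(P : Subgroup G))
    {t y : G} (ht : orderOf t = 2) (hy1 : y ≠ 1) (hy : ∃ k : ℕ, orderOf y = p ^ k)
    (hinv : t * y * t⁻¹ = y⁻¹) :
    ∃ P : Sylow p G, ∀ a ∈ (P : Subgroup G), t * a * t⁻¹ = a⁻¹ := by
  have htt : t * t = 1 := by simpa [pow_two, ht] using pow_orderOf_eq_one t
  obtain ⟨k, hk⟩ := hy
  obtain ⟨P, hP⟩ := (IsPGroup.of_card (n := k) (by rw [Nat.card_zpowers, hk]) :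
      IsPGroup p (Subgroup.zpowers y)).exists_le_sylow
  have hPC : (P : Subgroup G) ≤ Subgroup.centralizer ({y} : Set G) := fun a ha =>
    Subgroup.mem_centralizer_singleton_iff.mpr
      (congrArg Subtype.val ((hab P).is_comm.comm ⟨a, ha⟩ ⟨y, hP (Subgroup.mem_zpowers y)⟩))
  obtain ⟨R, -, hRp, hRc, hR⟩ := exists_inverted_sylow p (Subgroup.centralizer ({y} : Set G))
    (hC y hy1 ⟨k, hk⟩) t htt (fun a ha => by
      rw [Subgroup.mem_centralizer_singleton_iff] at ha ⊢
      have h : Commute a y⁻¹ := (show Commute a y from ha).inv_right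
      have h' := congrArg (fun u => t * u * t⁻¹) h.eq
      have hy' : t * y⁻¹ * t⁻¹ = y := by rw [← conj_inv, hinv, inv_inv]
      calc t * a * t⁻¹ * y = t * a * t⁻¹ * (t * y⁻¹ * t⁻¹) := by rw [hy']
        _ = t * (a * y⁻¹) * t⁻¹ := by group
        _ = t * (y⁻¹ * a) * t⁻¹ := h'
        _ = (t * y⁻¹ * t⁻¹) * (t * a * t⁻¹) := by group
        _ = y * (t * a * t⁻¹) := by rw [hy'])
    (fun a _ ha hf => eq_one_of_fixed p hC ht ha hf)
  refine ⟨Sylow.ofCard R ?_, hR⟩
  rw [hRc]
  congr 1
  refine le_antisymm ((Nat.factorization_le_iff_dvd Nat.card_pos.ne' Nat.card_pos.ne').mpr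
    (Subgroup.card_subgroup_dvd_card _) p) ?_
  rw [← (Fact.out : p.Prime).pow_dvd_iff_le_factorization Nat.card_pos.ne', ← P.card_eq_multiplicity]
  exact Subgroup.card_dvd_of_le hPC

variable {Ω : Type*} [MulAction G Ω] [FaithfulSMul G Ω] [Finite Ω]
  [htr : MulAction.IsPretransitive G Ω] {r : ℕ} (hΩ : Nat.card Ω = p ^ r)

include htr hΩ in
/-- The Sylow `p`-subgroups are transitive. -/
theorem sylow_transitive (P : Sylow p G) (a b : Ω) : ∃ u ∈ (P : Subgroup G), u • a = b := by
  classical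
  have hp : p.Prime := Fact.out
  set H := MulAction.stabilizer G a with hH
  have hidx : H.index = p ^ r := by
    rw [hH, MulAction.index_stabilizer_of_transitive, hΩ]
  have hsplit : Nat.card H * p ^ r = Nat.card G := hidx ▸ H.card_mul_index
  set S := MulAction.stabilizer ↥(P : Subgroup G) a with hS
  have hmap : S.map (P : Subgroup G).subtype ≤ H := by
    rintro _ ⟨u, hu, rfl⟩
    exact hu
  have hSH : Nat.card S ∣ Nat.card H := by
    rw [Nat.card_congr (S.equivMapOfInjective (P : Subgroup G).subtype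
      (P : Subgroup G).subtype_injective).toEquiv]
    exact Subgroup.card_dvd_of_le hmap
  obtain ⟨j, hj⟩ := IsPGroup.iff_card.mp (P.isPGroup'.to_subgroup S)
  have horb : Nat.card (MulAction.orbit ↥(P : Subgroup G) a) * Nat.card S =
      p ^ (Nat.card G).factorization p := by
    rw [Nat.card_congr (MulAction.orbitEquivQuotientStabilizer _ _), ← Subgroup.index_eq_card,
      S.index_mul_card, P.card_eq_multiplicity]
  have hjH : j ≤ (Nat.card H).factorization p := by
    rw [← hp.pow_dvd_iff_le_factorization Nat.card_pos.ne', ← hj]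
    exact hSH
  have hfG : (Nat.card G).factorization p = (Nat.card H).factorization p + r := by
    rw [← hsplit, Nat.factorization_mul Nat.card_pos.ne' (pow_ne_zero _ hp.ne_zero),
      Finsupp.add_apply, hp.factorization_pow, Finsupp.single_eq_same]
  have hle : p ^ r ≤ Nat.card (MulAction.orbit ↥(P : Subgroup G) a) := by
    refine Nat.le_of_mul_le_mul_right ?_ (Nat.card_pos (α := S))
    rw [horb, hfG, hj, ← pow_add]
    exact Nat.pow_le_pow_right hp.pos (by omega)
  have huniv : MulAction.orbit ↥(P : Subgroup G) a = Set.univ := by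
    apply Set.eq_of_subset_of_ncard_le (Set.subset_univ _) _ Set.finite_univ
    rw [Set.ncard_univ, hΩ, ← Nat.card_coe_set_eq]
    exact hle
  obtain ⟨u, hu⟩ := (huniv ▸ Set.mem_univ b : b ∈ MulAction.orbit ↥(P : Subgroup G) a)
  exact ⟨u, u.2, hu⟩

variable (hab : ∀ P : Sylow p G, IsMulCommutative ↥(P : Subgroup G))

include htr hΩ hab in
/-- The Sylow `p`-subgroups are regular. -/
theorem sylow_semiregular (P : Sylow p G) {u : G} (hu : u ∈ (P : Subgroup G)) {a : Ω}
    (h : u • a = a) : u = 1 := by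
  apply eq_of_smul_eq_smul (α := Ω)
  intro b
  obtain ⟨v, hv, rfl⟩ := sylow_transitive p hΩ P a b
  rw [one_smul, ← mul_smul,
    show u * v = v * u from congrArg Subtype.val ((hab P).is_comm.comm ⟨u, hu⟩ ⟨v, hv⟩), mul_smul, h]

include htr hΩ hab in
/-- An element centralising a Sylow `p`-subgroup lies in it. -/
theorem mem_sylow_of_commute (P : Sylow p G) {c : G} (hc : ∀ u ∈ (P : Subgroup G), c * u = u * c)
    (a : Ω) : c ∈ (P : Subgroup G) := by
  obtain ⟨u, hu, hua⟩ := sylow_transitive p hΩ P a (c • a)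
  have hfix : (u⁻¹ * c) • a = a := by rw [mul_smul, ← hua, inv_smul_smul]
  have h1 : u⁻¹ * c = 1 := by
    apply eq_of_smul_eq_smul (α := Ω)
    intro b
    obtain ⟨v, hv, rfl⟩ := sylow_transitive p hΩ P a b
    have huv : u⁻¹ * v = v * u⁻¹ := congrArg Subtype.val
      ((hab P).is_comm.comm ⟨u⁻¹, inv_mem hu⟩ ⟨v, hv⟩)
    rw [one_smul, ← mul_smul,
      show u⁻¹ * c * v = v * (u⁻¹ * c) by
        rw [mul_assoc, hc v hv, ← mul_assoc, huv, mul_assoc], mul_smul, hfix]
  rw [inv_mul_eq_one] at h1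
  exact h1 ▸ hu

include htr hΩ hab in
/-- An involution inverting a Sylow `p`-subgroup fixes exactly one point. -/
theorem existsUnique_fixed_of_inverted (hp2 : p ≠ 2) [Nonempty Ω] {t : G} (P : Sylow p G)
    (hinv : ∀ a ∈ (P : Subgroup G), t * a * t⁻¹ = a⁻¹) : ∃! a : Ω, t • a = a := by
  obtain ⟨a⟩ := ‹Nonempty Ω›
  have hodd : Odd (Nat.card ↥(P : Subgroup G)) := by
    rw [P.card_eq_multiplicity]
    exact ((Fact.out : p.Prime).odd_of_ne_two hp2).pow
  obtain ⟨w, hw, hwa⟩ := sylow_transitive p hΩ P a (t • a)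
  have hact : ∀ u ∈ (P : Subgroup G), t • u • a = (u⁻¹ * w) • a := by
    intro u hu
    calc t • u • a = (t * u * t⁻¹) • t • a := by rw [← mul_smul, ← mul_smul]; group
      _ = (u⁻¹ * w) • a := by rw [hinv u hu, ← hwa, ← mul_smul]
  obtain ⟨v, hv, hvv, -⟩ := exists_sq (P : Subgroup G) hodd hw
  refine ⟨v • a, ?_, fun b hb => ?_⟩
  · show t • v • a = v • a
    rw [hact v hv, ← hvv, inv_mul_cancel_left]
  · obtain ⟨u, hu, rfl⟩ := sylow_transitive p hΩ P a b
    have hfix : (u⁻¹ * u⁻¹ * w) • a = a := by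
      rw [mul_assoc, mul_smul, ← hact u hu, hb, inv_smul_smul]
    have h1 := sylow_semiregular p hΩ hab P
      (mul_mem (mul_mem (inv_mem hu) (inv_mem hu)) hw) hfix
    have huu : u * u = v * v := by
      rw [hvv]
      have h2 := congrArg (fun e => u * u * e) h1
      simp only [mul_one] at h2
      rw [← h2]; group
    have hcomm : Commute u v := congrArg Subtype.val ((hab P).is_comm.comm ⟨u, hu⟩ ⟨v, hv⟩)
    obtain ⟨m, hm⟩ := hodd
    have hone : ∀ x ∈ (P : Subgroup G), x ^ (2 * m + 1) = 1 := fun x hx => by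
      rw [← hm]
      exact congrArg Subtype.val (pow_card_eq_one' (x := (⟨x, hx⟩ : ↥(P : Subgroup G))))
    have huv : u = v := by
      calc u = u ^ (2 * m + 1) * u := by rw [hone u hu, one_mul]
        _ = (u * u) ^ (m + 1) := by rw [← pow_two, ← pow_mul, ← pow_succ]; ring_nf
        _ = (v * v) ^ (m + 1) := by rw [huu]
        _ = v ^ (2 * m + 1) * v := by rw [← pow_two, ← pow_mul, ← pow_succ]; ring_nf
        _ = v := by rw [hone v hv, one_mul]
    rw [huv]

variable (hp2 : p ≠ 2) (hpG : p ∣ Nat.card G)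
  (hnd : ¬ ∃ χ : Cfsg.IrrCharacter G,
    (Cfsg.charDegree (χ : G → ℂ)).factorization p = (Nat.card G).factorization p)

include hC hab hp2 hpG hnd in
/-- Every involution inverts a Sylow `p`-subgroup. -/
theorem inverts_sylow {t : G} (ht : orderOf t = 2) :
    ∃ P : Sylow p G, ∀ a ∈ (P : Subgroup G), t * a * t⁻¹ = a⁻¹ := by
  haveI : Fact (Nat.Prime 2) := ⟨Nat.prime_two⟩
  have h2G : 2 ∣ Nat.card G := ht ▸ orderOf_dvd_natCard t
  rcases Cfsg.Agent.S4742.result p 2 hp2 hpG h2G (fun g hg hg' =>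
    fun h => Nat.not_even_iff_odd.mpr (hC g hg hg') (even_iff_two_dvd.mpr h)) with h | h
  · exact absurd h hnd
  obtain ⟨g, k, hg, hk, hne, hp'⟩ := h t (fun h => by simp [h] at ht) ⟨1, by simpa using ht⟩
  have hord : ∀ {x : G}, IsConj t x → orderOf x = 2 := by
    intro x hx
    obtain ⟨c, rfl⟩ := isConj_iff.mp hx
    rw [← ht]
    exact orderOf_injective (MulAut.conj c).toMonoidHom (MulAut.conj c).injective t
  have hgg : g * g = 1 := by simpa [pow_two, hord hg] using pow_orderOf_eq_one g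
  have hkk : k * k = 1 := by simpa [pow_two, hord hk] using pow_orderOf_eq_one k
  have hinv : g * (g * k⁻¹) * g⁻¹ = (g * k⁻¹)⁻¹ := by
    rw [mul_inv_rev, inv_inv, ← mul_assoc g g, hgg, one_mul, inv_eq_of_mul_eq_one_right hkk]
  obtain ⟨P, hP⟩ := exists_sylow_inverted p hC hab (hord hg) hne hp' hinv
  obtain ⟨c, rfl⟩ := isConj_iff.mp hg
  refine ⟨c⁻¹ • P, ?_⟩
  intro a ha
  obtain ⟨b, hb, rfl⟩ := Subgroup.mem_map.mp ha
  have hb' := hP b hb
  simp only [MulDistribMulAction.toMonoidEnd_apply, MulDistribMulAction.toMonoidHom_apply,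
    MulAut.smul_def, MulAut.conj_apply, inv_inv]
  calc t * (c⁻¹ * b * c) * t⁻¹ = c⁻¹ * ((c * t * c⁻¹) * b * (c * t * c⁻¹)⁻¹) * c := by group
    _ = (c⁻¹ * b * c)⁻¹ := by rw [hb']; group

include htr hΩ hC hab hp2 hpG hnd in
/-- Every involution fixes exactly one point. -/
theorem existsUnique_fixed [Nonempty Ω] {t : G} (ht : orderOf t = 2) : ∃! a : Ω, t • a = a := by
  obtain ⟨P, hP⟩ := inverts_sylow p hC hab hp2 hpG hnd ht
  exact existsUnique_fixed_of_inverted p hΩ hab hp2 P hP

variable (hFT : ∀ M : Subgroup G, Odd (Nat.card M) → Group.IsSolvable M)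

include htr hΩ hC hab hp2 hpG hnd hFT in
/-- Two conjugate involutions exchanging the same two points fix the same point. -/
theorem same_fixed {t s s' : G} (ht : orderOf t = 2) (hs : IsConj t s) (hs' : IsConj t s')
    {a b c : Ω} (hab' : a ≠ b) (hsa : s • a = b) (hs'a : s' • a = b) (hsc : s • c = c) :
    s' • c = c := by
  classical
  haveI : Nonempty Ω := ⟨a⟩
  have hp : p.Prime := Fact.out
  have hord : ∀ {x : G}, IsConj t x → orderOf x = 2 := by
    intro x hx
    obtain ⟨d, rfl⟩ := isConj_iff.mp hx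
    rw [← ht]
    exact orderOf_injective (MulAut.conj d).toMonoidHom (MulAut.conj d).injective t
  have hss : s * s = 1 := by simpa [pow_two, hord hs] using pow_orderOf_eq_one s
  have hs's' : s' * s' = 1 := by simpa [pow_two, hord hs'] using pow_orderOf_eq_one s'
  have hinvs : s⁻¹ = s := inv_eq_of_mul_eq_one_right hss
  have hinvs' : s'⁻¹ = s' := inv_eq_of_mul_eq_one_right hs's'
  have hsb : s • b = a := by rw [← hsa, ← mul_smul, hss, one_smul]
  have hs'b : s' • b = a := by rw [← hs'a, ← mul_smul, hs's', one_smul]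
  set x := s * s' with hx
  by_cases hx1 : x = 1
  · have : s' = s := by rw [← hinvs]; exact (inv_eq_of_mul_eq_one_right hx1).symm
    rw [this, hsc]
  have hxa : x • a = a := by rw [hx, mul_smul, hs'a, hsb]
  have hxb : x • b = b := by rw [hx, mul_smul, hs'b, hsa]
  have hxinv : s * x * s⁻¹ = x⁻¹ := by
    rw [hx, mul_inv_rev, hinvs', hinvs, ← mul_assoc s s, hss, one_mul]
  set C := Subgroup.centralizer ({x} : Set G) with hCdef
  have hsC : ∀ d ∈ C, s * d * s⁻¹ ∈ C := by
    intro d hd
    rw [hCdef, Subgroup.mem_centralizer_singleton_iff] at hd ⊢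
    have h : Commute d x⁻¹ := (show Commute d x from hd).inv_right
    have hx' : s * x⁻¹ * s⁻¹ = x := by rw [← conj_inv, hxinv, inv_inv]
    calc s * d * s⁻¹ * x = s * d * s⁻¹ * (s * x⁻¹ * s⁻¹) := by rw [hx']
      _ = s * (d * x⁻¹) * s⁻¹ := by group
      _ = s * (x⁻¹ * d) * s⁻¹ := by rw [h.eq]
      _ = (s * x⁻¹ * s⁻¹) * (s * d * s⁻¹) := by group
      _ = x * (s * d * s⁻¹) := by rw [hx']
  by_cases hodd : Odd (Nat.card C)
  swap
  · -- an involution centralising `x` and commuting with `s`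
    rw [Nat.not_odd_iff_even] at hodd
    haveI := Fintype.ofFinite C
    obtain ⟨ρ, hρC, hρ1, hρρ, hρs⟩ : ∃ ρ : G, ρ ∈ C ∧ ρ ≠ 1 ∧ ρ * ρ = 1 ∧ s * ρ * s⁻¹ = ρ := by
      have hfin : ¬ 2 ∣ Fintype.card {d : C // d ≠ 1 ∧ d * d = 1} := by
        have h1 : Fintype.card {d : C // d * d = 1} =
            Fintype.card {d : C // d ≠ 1 ∧ d * d = 1} + 1 := by
          rw [Fintype.card_subtype, Fintype.card_subtype,
            show (Finset.univ.filter fun d : C => d ≠ 1 ∧ d * d = 1) =
              (Finset.univ.filter fun d : C => d * d = 1).erase 1 by ext d; simp [and_comm],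
            Finset.card_erase_add_one]
          simp
        have h2 : Fintype.card C ≡ Fintype.card {d : C // d * d = 1} [MOD 2] := by
          let f : Function.End C := fun d => d⁻¹
          have hf : f ^ (2 ^ 1) = 1 := by
            rw [pow_one, pow_two]
            funext d
            show (d⁻¹)⁻¹ = d
            exact inv_inv d
          refine (Equiv.Perm.card_fixedPoints_modEq (p := 2) (n := 1) hf).trans ?_
          rw [Fintype.card_congr (Equiv.subtypeEquivRight (q := fun d : C => d * d = 1) (fun d => by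
            show d⁻¹ = d ↔ d * d = 1
            rw [inv_eq_iff_mul_eq_one]) : ↥(Function.fixedPoints f) ≃ {d : C // d * d = 1})]
        intro hdvd
        have h3 : Even (Fintype.card C) := by rwa [← Nat.card_eq_fintype_card]
        obtain ⟨i, hi⟩ := h3
        obtain ⟨j, hj⟩ := hdvd
        rw [h1, hi, hj, Nat.ModEq] at h2
        omega
      let σ : Equiv.Perm {d : C // d ≠ 1 ∧ d * d = 1} :=
        Function.Involutive.toPerm
          (fun d => ⟨⟨s * d.1 * s⁻¹, hsC _ d.1.2⟩, by
            obtain ⟨⟨d, hd⟩, hd1, hdd⟩ := d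
            refine ⟨fun h => hd1 (Subtype.ext ?_), Subtype.ext ?_⟩
            · have h' : s * d * s⁻¹ = 1 := congrArg Subtype.val h
              show d = 1
              calc d = s⁻¹ * (s * d * s⁻¹) * s := by group
                _ = 1 := by rw [h']; group
            · show s * d * s⁻¹ * (s * d * s⁻¹) = 1
              rw [show s * d * s⁻¹ * (s * d * s⁻¹) = s * (d * d) * s⁻¹ by group,
                show d * d = 1 from congrArg Subtype.val hdd]
              group⟩)
          (fun d => Subtype.ext (Subtype.ext (by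
            show s * (s * (d.1 : G) * s⁻¹) * s⁻¹ = (d.1 : G)
            calc s * (s * (d.1 : G) * s⁻¹) * s⁻¹ = (s * s) * d.1 * (s * s)⁻¹ := by group
              _ = d.1 := by rw [hss]; group)))
      obtain ⟨d, hd⟩ := Equiv.Perm.exists_fixed_point_of_prime (p := 2) (n := 1) hfin (σ := σ) (by
        rw [pow_one, pow_two]
        exact Equiv.ext fun d => Function.Involutive.toPerm_involutive _ d)
      exact ⟨d.1, d.1.2, fun h => d.2.1 (Subtype.ext h), congrArg Subtype.val d.2.2,
        congrArg (fun e : {d : C // d ≠ 1 ∧ d * d = 1} => (e.1 : G)) hd⟩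
    have hρord : orderOf ρ = 2 := orderOf_eq_prime (by rwa [pow_two]) hρ1
    have hρc : ρ • c = c := by
      obtain ⟨c₀, -, huniq⟩ := existsUnique_fixed p hC hΩ hab hp2 hpG hnd (hord hs)
      have h1 : s • (ρ • c) = ρ • c := by
        conv_rhs => rw [← hsc]
        rw [← mul_smul, ← mul_smul, mul_inv_eq_iff_eq_mul.mp hρs]
      exact (huniq _ h1).trans (huniq _ hsc).symm
    have hxc : x • c = c := by
      obtain ⟨c₀, -, huniq⟩ := existsUnique_fixed p hC hΩ hab hp2 hpG hnd hρord
      have h1 : ρ • (x • c) = x • c := by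
        conv_rhs => rw [← hρc]
        rw [← mul_smul, ← mul_smul, Subgroup.mem_centralizer_singleton_iff.mp hρC]
      exact (huniq _ h1).trans (huniq _ hρc).symm
    have : s' = s * x := by rw [hx, ← mul_assoc, hss, one_mul]
    rw [this, mul_smul, hxc, hsc]
  exfalso
  by_cases hpC : p ∣ Nat.card C
  · -- the centraliser of an inverted `p`-subgroup of `C` forces `x = 1`
    obtain ⟨R, hRC, hRp, hRcard, hRinv⟩ := exists_inverted_sylow p C hodd s hss hsC
      (fun d _ hd hf => eq_one_of_fixed p hC (hord hs) hd hf)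
    obtain ⟨y, hyR, hy1⟩ : ∃ y ∈ R, y ≠ 1 := by
      refine R.bot_or_exists_ne_one.resolve_left fun h => ?_
      rw [h, Subgroup.card_bot] at hRcard
      have := (Nat.pow_eq_one.mp hRcard.symm).resolve_left hp.one_lt.ne'
      have h1 := (hp.pow_dvd_iff_le_factorization (k := 1) Nat.card_pos.ne').mp
        (by rwa [pow_one] : p ^ 1 ∣ Nat.card C)
      omega
    have hyord : ∃ k : ℕ, orderOf y = p ^ k := by
      obtain ⟨k, hk⟩ := IsPGroup.iff_orderOf.mp hRp ⟨y, hyR⟩
      exact ⟨k, by rw [← hk, ← Subgroup.orderOf_coe]⟩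
    set M := Subgroup.centralizer (R : Set G) with hM
    have hModd : Odd (Nat.card M) := (hC y hy1 hyord).of_dvd_nat (Subgroup.card_dvd_of_le
      (Subgroup.centralizer_le (Set.singleton_subset_iff.mpr hyR)))
    have hxM : x ∈ M := Subgroup.mem_centralizer_iff.mpr fun d hd =>
      Subgroup.mem_centralizer_singleton_iff.mp (hRC hd)
    have hsM : ∀ d ∈ M, s * d * s⁻¹ ∈ M := by
      intro d hd
      rw [hM, Subgroup.mem_centralizer_iff] at hd ⊢
      intro e he
      have h1 := hd e⁻¹ (R.inv_mem he)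
      have h2 : s * e⁻¹ * s⁻¹ = e := by rw [hRinv _ (R.inv_mem he), inv_inv]
      calc e * (s * d * s⁻¹) = (s * e⁻¹ * s⁻¹) * (s * d * s⁻¹) := by rw [h2]
        _ = s * (e⁻¹ * d) * s⁻¹ := by group
        _ = s * (d * e⁻¹) * s⁻¹ := by rw [h1]
        _ = (s * d * s⁻¹) * (s * e⁻¹ * s⁻¹) := by group
        _ = (s * d * s⁻¹) * e := by rw [h2]
    obtain ⟨P0, hP0⟩ := hRp.exists_le_sylow
    have hP0M : (P0 : Subgroup G) ≤ M := fun d hd => Subgroup.mem_centralizer_iff.mpr fun e he =>
      congrArg Subtype.val ((hab P0).is_comm.comm ⟨e, hP0 he⟩ ⟨d, hd⟩)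
    obtain ⟨Q, hQM, hQp, hQcard, hQinv⟩ := exists_inverted_sylow p M hModd s hss hsM
      (fun d _ hd hf => eq_one_of_fixed p hC (hord hs) hd hf)
    have hMG : (Nat.card M).factorization p = (Nat.card G).factorization p := by
      refine le_antisymm ((Nat.factorization_le_iff_dvd Nat.card_pos.ne' Nat.card_pos.ne').mpr
        (Subgroup.card_subgroup_dvd_card _) p) ?_
      rw [← hp.pow_dvd_iff_le_factorization Nat.card_pos.ne', ← P0.card_eq_multiplicity]
      exact Subgroup.card_dvd_of_le hP0M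
    let Ps : Sylow p G := Sylow.ofCard Q (by rw [hQcard, hMG])
    have hPs : (Ps : Subgroup G) = Q := rfl
    haveI := hFT M hModd
    haveI : MulAction.IsPretransitive M Ω := ⟨fun α β => by
      obtain ⟨u, hu, h⟩ := sylow_transitive p hΩ Ps α β
      exact ⟨⟨u, hQM (hPs ▸ hu)⟩, h⟩⟩
    have hcore : ∀ q : ℕ, q.Prime → q ≠ p → Cfsg.pCore q M = ⊥ := by
      intro q hq hqp
      haveI : Fact q.Prime := ⟨hq⟩
      haveI := CfsgLib.Solvable.pCore_normal (p := q) M
      obtain ⟨α, hα⟩ := (CfsgLib.Solvable.pCore_isPGroup (p := q) M).nonempty_fixed_point_of_prime_not_dvd_card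
        Ω (by
          rw [hΩ]
          exact fun h => hqp ((Nat.prime_dvd_prime_iff_eq hq hp).mp (hq.dvd_of_dvd_pow h)))
      rw [Subgroup.eq_bot_iff_forall]
      intro d hd
      apply Subtype.ext
      apply eq_of_smul_eq_smul (α := Ω)
      intro β
      obtain ⟨m, hm⟩ := MulAction.exists_smul_eq M α β
      have hd' : m⁻¹ * d * m ∈ Cfsg.pCore q M := by
        simpa using (inferInstance : (Cfsg.pCore q M).Normal).conj_mem d hd m⁻¹
      have h1 : (m⁻¹ * d * m) • α = α := hα ⟨_, hd'⟩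
      rw [OneMemClass.coe_one, one_smul, ← hm]
      show d • m • α = m • α
      conv_rhs => rw [← h1, ← mul_smul, mul_assoc, mul_inv_cancel_left]
      rw [← mul_smul]
    have hF : Cfsg.fittingSubgroup M ≤ Cfsg.pCore p M := by
      rw [CfsgLib.Solvable.fittingSubgroup_eq_iSup_pCore]
      refine iSup_le fun q => ?_
      by_cases hqp : (q : ℕ) = p
      · rw [hqp]
      · rw [hcore q (Nat.prime_of_mem_primeFactors q.2) hqp]; exact bot_le
    -- the Sylow subgroup of `M` is normal
    have hPM : ∀ u : M, (u : G) ∈ (Ps : Subgroup G) → u ∈ Cfsg.pCore p M := by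
      let QM : Subgroup M := Q.subgroupOf M
      have hQMc : Nat.card QM = p ^ (Nat.card M).factorization p := by
        rw [Nat.card_congr (Subgroup.subgroupOfEquivOfLe hQM).toEquiv, hQcard]
      let QS : Sylow p M := Sylow.ofCard QM hQMc
      intro u hu
      apply (hF.trans le_rfl)
      apply CfsgLib.Solvable.centralizer_fittingSubgroup_le
      rw [Subgroup.mem_centralizer_iff]
      intro f hf
      have hfQ : (f : G) ∈ (Ps : Subgroup G) :=
        Subgroup.mem_subgroupOf.mp ((CfsgLib.Solvable.pCore_le_sylow QS) (hF hf))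
      exact Subtype.ext (congrArg (fun e : ↥(Ps : Subgroup G) => (e : G))
        ((hab Ps).is_comm.comm ⟨_, hfQ⟩ ⟨_, hu⟩))
    have hconjQ : ∀ u ∈ (Ps : Subgroup G), x * u * x⁻¹ ∈ (Ps : Subgroup G) := by
      intro u hu
      haveI := CfsgLib.Solvable.pCore_normal (p := p) M
      have h1 := (inferInstance : (Cfsg.pCore p M).Normal).conj_mem _
        (hPM ⟨u, hQM (hPs ▸ hu)⟩ hu) ⟨x, hxM⟩
      let QS : Sylow p M := Sylow.ofCard (Q.subgroupOf M) (by
        rw [Nat.card_congr (Subgroup.subgroupOfEquivOfLe hQM).toEquiv, hQcard])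
      exact Subgroup.mem_subgroupOf.mp ((CfsgLib.Solvable.pCore_le_sylow QS) h1)
    have hx2 : x * x ∈ (Ps : Subgroup G) := by
      refine mem_sylow_of_commute p hΩ hab Ps (fun u hu => ?_) a
      have h1 := hQinv _ (hPs ▸ hconjQ u hu)
      have h2 : s * (x * u * x⁻¹) * s⁻¹ = x⁻¹ * u⁻¹ * x := by
        calc s * (x * u * x⁻¹) * s⁻¹ = (s * x * s⁻¹) * (s * u * s⁻¹) * (s * x * s⁻¹)⁻¹ := by group
          _ = x⁻¹ * u⁻¹ * x := by rw [hxinv, hQinv u (hPs ▸ hu), inv_inv]
      rw [h2] at h1
      calc x * x * u = x * (x * u * x⁻¹) * x := by group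
        _ = x * (x * u * x⁻¹)⁻¹⁻¹ * x := by rw [inv_inv]
        _ = x * (x⁻¹ * u⁻¹ * x)⁻¹ * x := by rw [h1]
        _ = u * (x * x) := by group
    have hxx : x * x = 1 := sylow_semiregular p hΩ hab Ps hx2 (by rw [mul_smul, hxa, hxa])
    obtain ⟨c₀, -, huniq⟩ := existsUnique_fixed p hC hΩ hab hp2 hpG hnd
      (orderOf_eq_prime (by rwa [pow_two]) hx1)
    exact hab' ((huniq _ hxa).trans (huniq _ hxb).symm)
  · -- otherwise a coefficient of the square of the class sum is prime to `p`
    have hpCs : ¬ p ∣ Nat.card (Subgroup.centralizer ({s} : Set G)) := by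
      intro h
      obtain ⟨⟨d, hd⟩, hdo⟩ := exists_prime_orderOf_dvd_card' p h
      rw [Subgroup.orderOf_mk] at hdo
      have h1 := eq_one_of_fixed p hC (hord hs) (a := d) ⟨1, by rw [pow_one, hdo]⟩
        (by rw [← Subgroup.mem_centralizer_singleton_iff.mp hd]; group)
      rw [h1, orderOf_one] at hdo
      exact hp.one_lt.ne hdo
    have hdiv := count_dvd p hnd s x
    rcases hp.dvd_mul.mp hdiv with h | h
    swap
    · exact hpCs h
    have hset : {e : G | IsConj s (e * s * e⁻¹ * x)} =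
        (C : Set G) * (Subgroup.centralizer ({s} : Set G) : Set G) := by
      ext e
      rw [Set.mem_ofPred_eq, Set.mem_mul]
      constructor
      · intro he
        set u := e * s * e⁻¹ with hu
        have huu : u * u = 1 := by
          rw [hu, show e * s * e⁻¹ * (e * s * e⁻¹) = e * (s * s) * e⁻¹ by group, hss]; group
        have huxux : u * x * (u * x) = 1 := by
          obtain ⟨d, hd⟩ := isConj_iff.mp he
          rw [← hd, show d * s * d⁻¹ * (d * s * d⁻¹) = d * (s * s) * d⁻¹ by group, hss]; group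
        have huinv : u⁻¹ = u := inv_eq_of_mul_eq_one_right huu
        have hux : u * x * u⁻¹ = x⁻¹ := by
          rw [huinv, eq_inv_iff_mul_eq_one]
          simpa only [mul_assoc] using huxux
        set k := s * u with hk
        have hkC : k ∈ C := by
          rw [hCdef, Subgroup.mem_centralizer_singleton_iff, ← mul_inv_eq_iff_eq_mul]
          rw [hk, show s * u * x * (s * u)⁻¹ = s * (u * x * u⁻¹) * s⁻¹ by group, hux, ← conj_inv,
            hxinv, inv_inv]
        have hkinv : s * k * s⁻¹ = k⁻¹ := by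
          rw [hk, mul_inv_rev, huinv, hinvs, ← mul_assoc s s, hss, one_mul]
        obtain ⟨d, hdC, hdd, hdi⟩ := exists_sq C hodd hkC
        refine ⟨d⁻¹, C.inv_mem hdC, d * e, ?_, inv_mul_cancel_left _ _⟩
        rw [SetLike.mem_coe, Subgroup.mem_centralizer_singleton_iff]
        have hd' := hdi s hkinv
        calc d * e * s = d * u * e := by rw [hu]; group
          _ = d * (s⁻¹ * (s * u)) * e := by group
          _ = d * (s⁻¹ * (d * d)) * e := by rw [← hk, hdd]
          _ = d * (s * d * s⁻¹) * s * d * e := by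
            rw [hinvs, show d * (s * d * s) * s * d * e = d * (s * d * (s * s)) * d * e by group, hss]
            group
          _ = s * (d * e) := by rw [hd', mul_inv_cancel, one_mul, mul_assoc]
      · rintro ⟨d, hd, k, hk, rfl⟩
        have hd' := Subgroup.mem_centralizer_singleton_iff.mp hd
        have hk' := Subgroup.mem_centralizer_singleton_iff.mp hk
        have h1 : d * k * s * (d * k)⁻¹ * x = d * s' * d⁻¹ := by
          calc d * k * s * (d * k)⁻¹ * x = d * (k * s) * k⁻¹ * (d⁻¹ * x * d) * d⁻¹ := by group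
            _ = d * (s * k) * k⁻¹ * x * d⁻¹ := by
              rw [hk', mul_assoc d⁻¹ x d, ← hd', inv_mul_cancel_left]
            _ = d * (s * s) * s' * d⁻¹ := by rw [hx]; group
            _ = d * s' * d⁻¹ := by rw [hss, mul_one]
        rw [h1]
        exact (hs.symm.trans hs').trans (isConj_iff.mpr ⟨d, rfl⟩)
    have hcard : Nat.card {e : G // IsConj s (e * s * e⁻¹ * x)} =
        Nat.card ↥((C : Set G) * (Subgroup.centralizer ({s} : Set G) : Set G)) :=
      Nat.card_congr (Equiv.setCongr hset)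
    rw [hcard, Subgroup.card_mul_eq_card_subgroup_mul_card_quotient] at h
    rcases hp.dvd_mul.mp h with h | h
    · exact hpCs h
    · refine hpC (dvd_trans h ?_)
      set S := Subgroup.centralizer ({s} : Set G)
      have himg : (QuotientGroup.mk '' (C : Set G) : Set (G ⧸ S)) =
          MulAction.orbit C ((1 : G) : G ⧸ S) := by
        ext q
        constructor
        · rintro ⟨d, hd, rfl⟩
          exact ⟨⟨d, hd⟩, by
            show ((d * 1 : G) : G ⧸ S) = _
            rw [mul_one]⟩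
        · rintro ⟨⟨d, hd⟩, rfl⟩
          exact ⟨d, hd, by
            show _ = ((d * 1 : G) : G ⧸ S)
            rw [mul_one]⟩
      rw [himg, Nat.card_congr (MulAction.orbitEquivQuotientStabilizer _ _), ← Subgroup.index_eq_card]
      exact Subgroup.index_dvd_card _

include htr hΩ hC hab hp2 hpG hnd hFT in
/-- Conjugate involutions with a common fixed point are equal. -/
theorem eq_of_fixed {t s s' : G} (ht : orderOf t = 2) (hs : IsConj t s) (hs' : IsConj t s')
    {c : Ω} (hsc : s • c = c) (hs'c : s' • c = c) : s = s' := by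
  classical
  haveI : Nonempty Ω := ⟨c⟩
  haveI := Fintype.ofFinite Ω
  haveI := Fintype.ofFinite G
  have hord : ∀ {x : G}, IsConj t x → orderOf x = 2 := by
    intro x hx
    obtain ⟨d, rfl⟩ := isConj_iff.mp hx
    rw [← ht]
    exact orderOf_injective (MulAut.conj d).toMonoidHom (MulAut.conj d).injective t
  have huniq : ∀ {x : G}, IsConj t x → ∃! α : Ω, x • α = α := fun hx =>
    existsUnique_fixed p hC hΩ hab hp2 hpG hnd (hord hx)
  let K : Finset G := Finset.univ.filter fun x => IsConj t x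
  let Fx : Ω → Finset G := fun γ => K.filter fun x => x • γ = γ
  set m := (Fx c).card with hm
  have hFx : ∀ γ, (Fx γ).card = m := by
    intro γ
    obtain ⟨g, rfl⟩ := MulAction.exists_smul_eq G c γ
    refine Finset.card_nbij' (fun x => g⁻¹ * x * g) (fun x => g * x * g⁻¹) ?_ ?_ ?_ ?_
    · intro x hx
      simp only [Fx, K, Finset.mem_coe, Finset.mem_filter, Finset.mem_univ, true_and] at hx ⊢
      exact ⟨hx.1.trans (isConj_iff.mpr ⟨g⁻¹, by rw [inv_inv]⟩), by
        rw [mul_smul, mul_smul, hx.2, inv_smul_smul]⟩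
    · intro x hx
      simp only [Fx, K, Finset.mem_coe, Finset.mem_filter, Finset.mem_univ, true_and] at hx ⊢
      exact ⟨hx.1.trans (isConj_iff.mpr ⟨g, rfl⟩), by
        rw [mul_smul, mul_smul, inv_smul_smul, hx.2]⟩
    · intro x _; group
    · intro x _; group
  have key : ∀ α : Ω, α ≠ c → s' • α = s • α := by
    intro α hα
    let fib : Ω → Finset G := fun β => (K \ Fx α).filter fun x => x • α = β
    have hle : ∀ β ∈ Finset.univ.erase α, (fib β).card ≤ m := by
      intro β hβ
      by_cases he : (fib β) = ∅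
      · simp [he]
      obtain ⟨u, hu⟩ := Finset.nonempty_iff_ne_empty.mpr he
      simp only [fib, K, Finset.mem_filter, Finset.mem_sdiff, Finset.mem_univ, true_and] at hu
      obtain ⟨γ, hγ, -⟩ := huniq hu.1.1
      rw [← hFx γ]
      refine Finset.card_le_card fun v hv => ?_
      simp only [fib, Fx, K, Finset.mem_filter, Finset.mem_sdiff, Finset.mem_univ, true_and] at hv ⊢
      exact ⟨hv.1.1, same_fixed p hC hΩ hab hp2 hpG hnd hFT ht hu.1.1 hv.1.1
        (Finset.ne_of_mem_erase hβ).symm hu.2 hv.2 hγ⟩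
    have hsum : ∑ β ∈ Finset.univ.erase α, (fib β).card = ∑ β ∈ Finset.univ.erase α, m := by
      rw [← Finset.card_eq_sum_card_fiberwise (f := fun x : G => x • α)]
      · have hK : K.card = ∑ γ : Ω, (Fx γ).card := by
          have h1 : ∀ x ∈ K, (Finset.univ.filter fun γ : Ω => x • γ = γ).card = 1 := by
            intro x hx
            simp only [K, Finset.mem_filter, Finset.mem_univ, true_and] at hx
            obtain ⟨γ, hγ, hγu⟩ := huniq hx
            rw [Finset.card_eq_one]
            exact ⟨γ, by ext δ; simp only [Finset.mem_filter, Finset.mem_univ, true_and,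
              Finset.mem_singleton]; exact ⟨hγu δ, fun h => h ▸ hγ⟩⟩
          rw [Finset.card_eq_sum_ones, ← Finset.sum_congr rfl h1]
          simp only [Fx, Finset.card_filter]
          rw [Finset.sum_comm]
        simp only [hFx, Finset.sum_const, smul_eq_mul, Finset.card_univ] at hK ⊢
        rw [Finset.card_sdiff_of_subset (Finset.filter_subset _ _), hFx, hK,
          Finset.card_erase_of_mem (Finset.mem_univ α), Finset.card_univ, Nat.sub_one_mul]
      · intro x hx
        simp only [Fx, K, Finset.mem_coe, Finset.mem_sdiff, Finset.mem_filter, Finset.mem_univ,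
          true_and, not_and] at hx
        exact Finset.mem_coe.mpr (Finset.mem_erase.mpr ⟨hx.2 hx.1, Finset.mem_univ _⟩)
    have hall := (Finset.sum_eq_sum_iff_of_le hle).mp hsum
    have hsα : s • α ≠ α := fun h => hα ((huniq hs).unique h hsc)
    have hsub : fib (s • α) ⊆ Fx c := by
      intro v hv
      simp only [fib, Fx, K, Finset.mem_filter, Finset.mem_sdiff, Finset.mem_univ, true_and] at hv ⊢
      exact ⟨hv.1.1, same_fixed p hC hΩ hab hp2 hpG hnd hFT ht hs hv.1.1 hsα.symm rfl hv.2 hsc⟩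
    have heq := Finset.eq_of_subset_of_card_le hsub
      (hall (s • α) (Finset.mem_erase.mpr ⟨hsα, Finset.mem_univ _⟩)).ge
    have hmem : s' ∈ fib (s • α) := by
      rw [heq]
      simp only [Fx, K, Finset.mem_filter, Finset.mem_univ, true_and]
      exact ⟨hs', hs'c⟩
    exact (Finset.mem_filter.mp hmem).2
  apply eq_of_smul_eq_smul (α := Ω)
  intro α
  by_cases hα : α = c
  · rw [hα, hsc, hs'c]
  · exact (key α hα).symm

include htr hΩ hC hab hp2 hpG hnd hFT in
/-- The Sylow `p`-subgroup is normal and regular, and each involution inverts it. -/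
theorem normal_sylow [Nonempty Ω] {t : G} (ht : orderOf t = 2) :
    ∃ P : Sylow p G, (P : Subgroup G).Normal ∧ ∀ a ∈ (P : Subgroup G), t * a * t⁻¹ = a⁻¹ := by
  obtain ⟨P, hP⟩ := inverts_sylow p hC hab hp2 hpG hnd ht
  refine ⟨P, ?_, hP⟩
  obtain ⟨c, hc, hcu⟩ := existsUnique_fixed_of_inverted p hΩ hab hp2 P hP
  have hodd : Odd (Nat.card ↥(P : Subgroup G)) := by
    rw [P.card_eq_multiplicity]
    exact ((Fact.out : p.Prime).odd_of_ne_two hp2).pow
  have htt : t * t = 1 := by simpa [pow_two, ht] using pow_orderOf_eq_one t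
  -- products of `t` with its conjugates lie in `P`
  have hmem : ∀ g : G, g * t * g⁻¹ * t ∈ (P : Subgroup G) := by
    intro g
    obtain ⟨u, hu, hug⟩ := sylow_transitive p hΩ P c (g • c)
    have h1 : (g * t * g⁻¹) • (g • c) = g • c := by
      rw [← mul_smul, inv_mul_cancel_right, mul_smul, hc]
    have h2 : (u * t * u⁻¹) • (g • c) = g • c := by
      rw [← hug, ← mul_smul, inv_mul_cancel_right, mul_smul, hc]
    have heq := eq_of_fixed p hC hΩ hab hp2 hpG hnd hFT ht (isConj_iff.mpr ⟨g, rfl⟩)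
      (isConj_iff.mpr ⟨u, rfl⟩) h1 h2
    have h3 : t * u⁻¹ * t = u := by
      have := hP u⁻¹ (inv_mem hu)
      rw [inv_inv, inv_eq_of_mul_eq_one_right htt] at this
      exact this
    rw [heq, show u * t * u⁻¹ * t = u * (t * u⁻¹ * t) by group, h3]
    exact mul_mem hu hu
  refine ⟨fun a ha g => ?_⟩
  -- reduce to the point stabiliser
  obtain ⟨v, hv, hvg⟩ := sylow_transitive p hΩ P c (g • c)
  set h := v⁻¹ * g with hh
  have hhc : h • c = c := by rw [hh, mul_smul, ← hvg, inv_smul_smul]
  have hht : h * t * h⁻¹ = t :=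
    eq_of_fixed p hC hΩ hab hp2 hpG hnd hFT ht (isConj_iff.mpr ⟨h, rfl⟩) (IsConj.refl t)
      (by rw [mul_smul, mul_smul, inv_smul_eq_iff.mpr hhc.symm, hc, hhc]) hc
  have hhP : h * a * h⁻¹ ∈ (P : Subgroup G) := by
    obtain ⟨b, hb, hbb, -⟩ := exists_sq (P : Subgroup G) hodd ha
    have hb' : t * b⁻¹ * t⁻¹ = b := by rw [hP _ (inv_mem hb), inv_inv]
    have e : h * a * h⁻¹ = (h * b) * t * (h * b)⁻¹ * t := by
      calc h * a * h⁻¹ = h * (b * (t * b⁻¹ * t⁻¹)) * h⁻¹ := by rw [hb', hbb]
        _ = (h * b) * t * (h * b)⁻¹ * (h * t⁻¹ * h⁻¹) := by group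
        _ = (h * b) * t * (h * b)⁻¹ * t := by
          rw [← conj_inv, hht, inv_eq_of_mul_eq_one_right htt]
    rw [e]
    exact hmem (h * b)
  have : g * a * g⁻¹ = v * (h * a * h⁻¹) * v⁻¹ := by rw [hh]; group
  rw [this]
  exact mul_mem (mul_mem hv hhP) (inv_mem hv)

/-- A group with a normal Sylow `p`-subgroup is `p`-solvable. -/
theorem pSolvable_of_normal_sylow (P : Sylow p G) (hP : (P : Subgroup G).Normal) :
    Cfsg.IsPSolvable p G := by
  refine ⟨2, ![⊥, (P : Subgroup G), ⊤], rfl, rfl, ?_, ?_, ?_⟩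
  · rw [Fin.monotone_iff_le_succ]
    intro i
    fin_cases i
    · exact bot_le
    · exact le_top
  · intro i
    fin_cases i
    · exact inferInstanceAs ((⊥ : Subgroup G).Normal)
    · exact hP
    · exact inferInstanceAs ((⊤ : Subgroup G).Normal)
  · intro i
    fin_cases i
    · refine Or.inl ⟨(Nat.card G).factorization p, ?_⟩
      show (⊥ : Subgroup G).relIndex (P : Subgroup G) = _
      rw [Subgroup.relIndex_bot_left, P.card_eq_multiplicity]
    · refine Or.inr ?_
      show ((P : Subgroup G).relIndex ⊤).Coprime p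
      rw [Subgroup.relIndex_top_right]
      exact ((Fact.out : p.Prime).coprime_iff_not_dvd.mpr P.not_dvd_index).symm

/-- If every involution inverts a normal abelian Sylow `p`-subgroup there is a character of full `2`-part. -/
theorem exists_two_defect_zero (hp2 : p ≠ 2) (hpG : p ∣ Nat.card G) (P : Sylow p G)
    [hPn : (P : Subgroup G).Normal] (hcomm : IsMulCommutative ↥(P : Subgroup G))
    (hinv : ∀ t : G, orderOf t = 2 → ∀ a ∈ (P : Subgroup G), t * a * t⁻¹ = a⁻¹) :
    ∃ χ : Cfsg.IrrCharacter G,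
      (Cfsg.charDegree (χ : G → ℂ)).factorization 2 = (Nat.card G).factorization 2 := by
  classical
  haveI := Fintype.ofFinite G
  haveI := Fintype.ofFinite ↥(P : Subgroup G)
  obtain ⟨u, hu, hu1⟩ := (P : Subgroup G).bot_or_exists_ne_one.resolve_left
    (Sylow.ne_bot_of_dvd_card P hpG)
  obtain ⟨χ, hχ⟩ : ∃ χ : Cfsg.IrrCharacter G, (χ : G → ℂ) u ≠ (χ : G → ℂ) 1 := by
    by_contra h
    push Not at h
    exact hu1 (isConj_one_left.mp (CfsgLib.Char.isConj_of_forall_eq (g := u) (h := 1) fun χ hχ => h ⟨χ, hχ⟩))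
  obtain ⟨θ, hθ, hθc⟩ := CfsgLib.Clifford.exists_constituent_res (P : Subgroup G) χ.2
  set I := CfsgLib.CharTwist.inertia (P : Subgroup G) θ with hI
  -- the inertia group has odd order
  have hIodd : Odd (Nat.card I) := by
    rw [← Nat.not_even_iff_odd]
    intro hev
    haveI : Fact (Nat.Prime 2) := ⟨Nat.prime_two⟩
    obtain ⟨⟨s, hs⟩, hso⟩ := exists_prime_orderOf_dvd_card' 2 (even_iff_two_dvd.mp hev)
    rw [Subgroup.orderOf_mk] at hso
    have hfix := CfsgLib.CharTwist.mem_inertia.mp hs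
    obtain ⟨ρ, hρ⟩ := CfsgLib.Char.IsCharacter.exists_linear (CfsgLib.Char.IsIrrCharacter.isCharacter hθ)
      (by
        haveI := hcomm
        exact (CfsgLib.CharOver.abelian_irr (fun a b => hcomm.is_comm.comm a b) hθ).1)
    have hodd : Odd (Nat.card ↥(P : Subgroup G)) := by
      rw [P.card_eq_multiplicity]
      exact ((Fact.out : p.Prime).odd_of_ne_two hp2).pow
    have htriv : ∀ a : ↥(P : Subgroup G), θ a = 1 := by
      intro a
      obtain ⟨b, hb, hbb, -⟩ := exists_sq (P : Subgroup G) hodd a.2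
      have hb' : θ ⟨b, hb⟩ = θ (⟨b, hb⟩ : ↥(P : Subgroup G))⁻¹ := by
        conv_lhs => rw [← hfix]
        simp only [CfsgLib.CharTwist.conjFun]
        congr 1
        apply Subtype.ext
        first
        | exact hinv s hso b hb
        | (have e := hinv s hso b hb; simp_all [inv_eq_of_mul_eq_one_right])
      have ha : a = ⟨b, hb⟩ * ⟨b, hb⟩ := Subtype.ext hbb.symm
      rw [hρ, hρ] at hb'
      have h1 : ρ ⟨b, hb⟩ * ρ ⟨b, hb⟩ = 1 := by
        rw [map_inv] at hb'
        have h2 : ρ ⟨b, hb⟩ = (ρ ⟨b, hb⟩)⁻¹ := Units.ext hb'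
        conv_lhs => arg 2; rw [h2]
        exact mul_inv_cancel _
      rw [hρ, ha, map_mul, h1, Units.val_one]
    have hres := CfsgLib.Clifford.res_eq (P : Subgroup G) χ.2 hθ hθc
    refine hχ ?_
    have h1 := congrFun hres ⟨u, hu⟩
    have h2 := congrFun hres 1
    have horb : ∀ ψ ∈ CfsgLib.Clifford.orbit (P : Subgroup G) θ, ∀ a, ψ a = 1 := by
      intro ψ hψ a
      obtain ⟨g, rfl⟩ := (CfsgLib.Clifford.mem_orbit _).mp hψ
      exact htriv _
    simp only [Pi.smul_apply, Finset.sum_apply, OneMemClass.coe_one] at h1 h2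
    rw [Finset.sum_congr rfl fun ψ hψ => horb ψ hψ _] at h1 h2
    exact h1.trans h2.symm
  refine ⟨χ, ?_⟩
  have hdeg := CfsgLib.Clifford.apply_one_eq (P : Subgroup G) χ.2 hθ hθc
  obtain ⟨e, he⟩ := CfsgLib.Char.IsCharacter.exists_nat_classInner
    (CfsgLib.Clifford.isCharacter_res (CfsgLib.Char.IsIrrCharacter.isCharacter χ.2) (P : Subgroup G)) hθ
  rw [he, CfsgLib.Blk83.one_eq,
    show θ 1 = 1 by haveI := hcomm; exact (CfsgLib.CharOver.abelian_irr (fun a b => hcomm.is_comm.comm a b) hθ).1, mul_one] at hdeg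
  have hd : Cfsg.charDegree (χ : G → ℂ) = e * I.index := by exact_mod_cast hdeg
  refine le_antisymm ((Nat.factorization_le_iff_dvd (CfsgLib.Blk83.deg_pos χ).ne' Nat.card_pos.ne').mpr
    (CfsgLib.Blk83.deg_dvd χ) 2) ?_
  have hI0 : I.index ≠ 0 := Subgroup.index_ne_zero_of_finite
  have he0 : e ≠ 0 := fun h => (CfsgLib.Blk83.deg_pos χ).ne' (by rw [hd, h, zero_mul])
  rw [hd, ← I.card_mul_index, Nat.factorization_mul he0 hI0, Nat.factorization_mul Nat.card_pos.ne' hI0,
    Finsupp.add_apply, Finsupp.add_apply,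
    Nat.factorization_eq_zero_of_not_dvd (fun h => Nat.not_even_iff_odd.mpr hIodd (even_iff_two_dvd.mpr h))]
  simp

/-- The theorem, given solvability of the odd order subgroups. -/
theorem main (hC : ∀ g : G, g ≠ 1 → (∃ k : ℕ, orderOf g = p ^ k) →
      Odd (Nat.card ↥(Subgroup.centralizer ({g} : Set G))))
    (hΩ : Nat.card Ω = p ^ r) (hp2 : p ≠ 2) (hpG : p ∣ Nat.card G) (h2G : 2 ∣ Nat.card G)
    (hFT : ∀ M : Subgroup G, Odd (Nat.card M) → Group.IsSolvable M) :
    (∃ χ : Cfsg.IrrCharacter G,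
        (Cfsg.charDegree (χ : G → ℂ)).factorization p = (Nat.card G).factorization p) ∨
      (Cfsg.IsPSolvable p G ∧ ∃ χ : Cfsg.IrrCharacter G,
        (Cfsg.charDegree (χ : G → ℂ)).factorization 2 = (Nat.card G).factorization 2) := by
  by_cases hnd : ∃ χ : Cfsg.IrrCharacter G,
      (Cfsg.charDegree (χ : G → ℂ)).factorization p = (Nat.card G).factorization p
  · exact Or.inl hnd
  right
  have hab : ∀ P : Sylow p G, IsMulCommutative ↥(P : Subgroup G) := fun P =>
    (((Cfsg.Agent.S4744.result p hp2 hpG h2G hC).resolve_left hnd) P).2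
  haveI : Nonempty Ω := (Nat.card_pos_iff.mp (hΩ ▸ pow_pos (Fact.out : p.Prime).pos r)).1
  haveI : Fact (Nat.Prime 2) := ⟨Nat.prime_two⟩
  obtain ⟨t, ht⟩ := exists_prime_orderOf_dvd_card' 2 h2G
  obtain ⟨P, hPn, -⟩ := normal_sylow p hC hΩ hab hp2 hpG hnd hFT ht
  refine ⟨pSolvable_of_normal_sylow p P hPn, ?_⟩
  haveI := hPn
  refine exists_two_defect_zero p hp2 hpG P (hab P) fun s hs => ?_
  obtain ⟨Q, -, hQ⟩ := normal_sylow p hC hΩ hab hp2 hpG hnd hFT hs
  haveI := Sylow.unique_of_normal P hPn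
  rw [Subsingleton.elim P Q]
  exact hQ

end CfsgLib.OddCentralizer
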